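import Groth.Agent.LC.GorRing
import Groth.Agent.FlatLoc6.GeomProp
import Mathlib.RingTheory.GradedAlgebra.HomogeneousLocalization
import Mathlib.AlgebraicGeometry.ProjectiveSpectrum.Basic

/-!
# The Gorenstein property passes to homogeneous localizations at primes with coprime degree units
-/

set_option autoImplicit false
set_option linter.unusedSectionVars false
set_option linter.style.haveILetI false
set_option backward.isDefEq.respectTransparency false
set_option backward.isDefEq.respectTransparency.types false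
set_option maxHeartbeats 1000000

universe u

open Polynomial HomogeneousLocalization IsLocalRing
open scoped DirectSum Pointwise

namespace Groth.Agent.ProjGor

variable {A : Type u} [CommRing A] (𝒜 : ℕ → AddSubgroup A) [GradedRing 𝒜] (P : Ideal A) [P.IsPrime]
variable {d : ℕ} {a b : A} (ha : a ∈ 𝒜 d) (hb : b ∈ 𝒜 (d + 1)) (haP : a ∉ P) (hbP : b ∉ P)

/-- The degree zero local ring. -/
abbrev HL : Type u := HomogeneousLocalization.AtPrime 𝒜 P

/-- The value map. -/
noncomputable def valHom : HL 𝒜 P →+* Localization.AtPrime P :=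
  { toFun := HomogeneousLocalization.val
    map_one' := val_one
    map_mul' := fun x y => val_mul x y
    map_zero' := val_zero
    map_add' := fun x y => val_add x y }

/-- The coefficient `r a ^ n / b ^ n` of a homogeneous element of degree `n`. -/
noncomputable def coef (n : ℕ) (r : 𝒜 n) : HL 𝒜 P :=
  HomogeneousLocalization.mk
    { deg := n * (d + 1)
      num := ⟨(r : A) * a ^ n, by
        have h := SetLike.mul_mem_graded r.2 (SetLike.pow_mem_graded n ha)
        rwa [smul_eq_mul, show n + n * d = n * (d + 1) by ring] at h⟩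
      den := ⟨b ^ n, by simpa using SetLike.pow_mem_graded n hb⟩
      den_mem := show b ^ n ∈ P.primeCompl from fun h => hbP (‹P.IsPrime›.mem_of_pow_mem n h) }

theorem val_coef (n : ℕ) (r : 𝒜 n) :
    (coef 𝒜 P ha hb hbP n r).val =
      Localization.mk ((r : A) * a ^ n)
        (⟨b ^ n, fun h => hbP (‹P.IsPrime›.mem_of_pow_mem n h)⟩ : P.primeCompl) := rfl

theorem val_coef' (n : ℕ) (r : 𝒜 n) : (coef 𝒜 P ha hb hbP n r).val * algebraMap A (Localization.AtPrime P) b ^ n =
    algebraMap A (Localization.AtPrime P) r * algebraMap A (Localization.AtPrime P) a ^ n := by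
  rw [val_coef, Localization.mk_eq_mk', ← map_pow (algebraMap A (Localization.AtPrime P)) b,
    ← map_pow (algebraMap A (Localization.AtPrime P)) a, ← map_mul]
  exact IsLocalization.mk'_spec (Localization.AtPrime P) _
    (⟨b ^ n, fun h => hbP (‹P.IsPrime›.mem_of_pow_mem n h)⟩ : P.primeCompl)

include hbP in
theorem isUnit_pow_b (n : ℕ) : IsUnit (algebraMap A (Localization.AtPrime P) b ^ n) :=
  (IsLocalization.map_units (M := P.primeCompl) (Localization.AtPrime P) ⟨b, hbP⟩).pow n

/-- The degree pieces of `A → HL[T]`. -/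
noncomputable def piece (n : ℕ) : 𝒜 n →+ (HL 𝒜 P)[X] :=
  AddMonoidHom.mk' (fun r => monomial n (coef 𝒜 P ha hb hbP n r)) fun r s => by
    rw [← map_add]
    congr 1
    apply val_injective
    refine (isUnit_pow_b P hbP n).mul_right_cancel ?_
    rw [val_add, add_mul, val_coef', val_coef', val_coef', AddSubgroup.coe_add, map_add, add_mul]

/-- `A → HL[T]`. -/
noncomputable def psi : A →+* (HL 𝒜 P)[X] :=
  (DirectSum.toSemiring (piece 𝒜 P ha hb hbP)
    (by
      show monomial 0 (coef 𝒜 P ha hb hbP 0 _) = 1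
      rw [← monomial_zero_one]
      congr 1
      apply val_injective
      have h := val_coef' 𝒜 P ha hb hbP 0 (GradedMonoid.GOne.one (A := fun i => 𝒜 i))
      simpa using h)
    (fun {i j} r s => by
      show monomial (i + j) (coef 𝒜 P ha hb hbP (i + j) _) = monomial i _ * monomial j _
      rw [monomial_mul_monomial]
      congr 1
      apply val_injective
      refine (isUnit_pow_b P hbP (i + j)).mul_right_cancel ?_
      rw [val_coef', val_mul]
      have e : (coef 𝒜 P ha hb hbP i r).val * (coef 𝒜 P ha hb hbP j s).val *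
          algebraMap A (Localization.AtPrime P) b ^ (i + j) =
          (algebraMap A (Localization.AtPrime P) r * algebraMap A (Localization.AtPrime P) a ^ i) *
            (algebraMap A (Localization.AtPrime P) s * algebraMap A (Localization.AtPrime P) a ^ j) := by
        rw [← val_coef' 𝒜 P ha hb hbP i r, ← val_coef' 𝒜 P ha hb hbP j s, pow_add]
        ring
      rw [e, SetLike.coe_gMul, map_mul, pow_add]
      ring)).comp (DirectSum.decomposeRingEquiv 𝒜).toRingHom

theorem psi_of_mem {n : ℕ} {r : A} (hr : r ∈ 𝒜 n) :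
    psi 𝒜 P ha hb hbP r = monomial n (coef 𝒜 P ha hb hbP n ⟨r, hr⟩) := by
  rw [psi, RingHom.comp_apply,
    show (DirectSum.decomposeRingEquiv 𝒜).toRingHom r = DirectSum.of (fun i => 𝒜 i) n ⟨r, hr⟩ from
      DirectSum.decompose_of_mem 𝒜 hr, DirectSum.toSemiring_of]
  rfl

/-- The ratio of the two units. -/
noncomputable def tt : Localization.AtPrime P := Localization.mk b ⟨a, haP⟩

theorem tt_mul : tt P (b := b) haP * algebraMap A (Localization.AtPrime P) a = algebraMap A (Localization.AtPrime P) b := by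
  rw [tt, Localization.mk_eq_mk']
  exact IsLocalization.mk'_spec (Localization.AtPrime P) b (⟨a, haP⟩ : P.primeCompl)

/-- `HL[T] → A_P`. -/
noncomputable def phi : (HL 𝒜 P)[X] →+* Localization.AtPrime P :=
  Polynomial.eval₂RingHom (valHom 𝒜 P) (tt P (b := b) haP)

include ha hb hbP in
theorem phi_psi (r : A) : phi 𝒜 P (b := b) haP (psi 𝒜 P ha hb hbP r) = algebraMap A (Localization.AtPrime P) r := by
  classical
  suffices h : ∀ (n : ℕ) (r : A), r ∈ 𝒜 n →
      phi 𝒜 P (b := b) haP (psi 𝒜 P ha hb hbP r) = algebraMap A (Localization.AtPrime P) r by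
    rw [← DirectSum.sum_support_decompose 𝒜 r, map_sum, map_sum, map_sum]
    exact Finset.sum_congr rfl fun n _ => h n _ (DirectSum.decompose 𝒜 r n).2
  intro n r hr
  rw [psi_of_mem 𝒜 P ha hb hbP hr, phi, coe_eval₂RingHom, eval₂_monomial]
  have hu : IsUnit (algebraMap A (Localization.AtPrime P) a ^ n) :=
    (IsLocalization.map_units (M := P.primeCompl) (Localization.AtPrime P) ⟨a, haP⟩).pow n
  refine hu.mul_right_cancel ?_
  rw [mul_assoc, ← mul_pow, tt_mul]
  exact val_coef' 𝒜 P ha hb hbP n ⟨r, hr⟩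

/-- **Descent to the homogeneous localization.** -/
theorem gorensteinLocal_hl [IsNoetherianRing A] [LocCoh.IsGorensteinLocalRing (Localization.AtPrime P)]
    (ha : a ∈ 𝒜 d) (hb : b ∈ 𝒜 (d + 1)) (haP : a ∉ P) (hbP : b ∉ P) :
    LocCoh.IsGorensteinLocalRing (HL 𝒜 P) := by
  let H := HL 𝒜 P
  let L := Localization.AtPrime P
  let φ := phi 𝒜 P (b := b) haP
  let ψ := psi 𝒜 P ha hb hbP
  let Q : Ideal H[X] := (maximalIdeal L).comap φ
  let L' := Localization.AtPrime Q
  have hφu : ∀ q : Q.primeCompl, IsUnit (φ q) := fun q => notMem_maximalIdeal.1 fun h => q.2 h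
  have hψu : ∀ s : P.primeCompl, IsUnit (algebraMap H[X] L' (ψ s)) := fun s =>
    IsLocalization.map_units L' (⟨ψ s, fun h => by
      have h' : φ (ψ s) ∈ maximalIdeal L := h
      rw [phi_psi 𝒜 P ha hb haP hbP] at h'
      exact (mem_maximalIdeal _).1 h' (IsLocalization.map_units L s)⟩ : Q.primeCompl)
  let F : L' →+* L := IsLocalization.lift (M := Q.primeCompl) (S := L') (g := φ) hφu
  let G : L →+* L' := IsLocalization.lift (M := P.primeCompl) (S := L) (g := (algebraMap H[X] L').comp ψ) hψu
  have hG : ∀ r, G (algebraMap A L r) = algebraMap H[X] L' (ψ r) := fun r => IsLocalization.lift_eq _ r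
  have hFG : F.comp G = RingHom.id L := by
    refine IsLocalization.ringHom_ext P.primeCompl (RingHom.ext fun r => ?_)
    show F (G (algebraMap A L r)) = algebraMap A L r
    rw [hG, IsLocalization.lift_eq]
    exact phi_psi 𝒜 P ha hb haP hbP r
  have hGF : G.comp F = RingHom.id L' := by
    refine IsLocalization.ringHom_ext Q.primeCompl (Polynomial.ringHom_ext (fun c => ?_) ?_)
    · show G (F (algebraMap H[X] L' (C c))) = algebraMap H[X] L' (C c)
      rw [IsLocalization.lift_eq]
      show G (eval₂ (valHom 𝒜 P) _ (C c)) = _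
      rw [eval₂_C]
      obtain ⟨c, rfl⟩ := HomogeneousLocalization.mk_surjective c
      refine (hψu ⟨c.den, c.den_mem⟩).mul_right_cancel ?_
      rw [← hG, ← map_mul]
      show G ((HomogeneousLocalization.mk c).val * algebraMap A L c.den) = _
      rw [val_mk, Localization.mk_eq_mk']
      erw [IsLocalization.mk'_spec L (c.num : A) ⟨(c.den : A), c.den_mem⟩]
      rw [hG, hG, ← map_mul,
        psi_of_mem 𝒜 P ha hb hbP c.num.2, psi_of_mem 𝒜 P ha hb hbP c.den.2, C_mul_monomial]
      congr 2
      apply val_injective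
      refine (isUnit_pow_b P hbP c.deg).mul_right_cancel ?_
      rw [val_coef', val_mul, mul_assoc, val_coef', val_mk, Localization.mk_eq_mk', ← mul_assoc]
      show _ = IsLocalization.mk' L (c.num : A) ⟨(c.den : A), c.den_mem⟩ * algebraMap A L c.den * _
      rw [IsLocalization.mk'_spec L (c.num : A) ⟨(c.den : A), c.den_mem⟩]
    · show G (F (algebraMap H[X] L' X)) = algebraMap H[X] L' X
      rw [IsLocalization.lift_eq]
      show G (eval₂ (valHom 𝒜 P) _ X) = _
      rw [eval₂_X]
      refine (hψu ⟨a, haP⟩).mul_right_cancel ?_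
      rw [← hG, ← map_mul, tt_mul, hG, hG, ← map_mul, psi_of_mem 𝒜 P ha hb hbP ha,
        psi_of_mem 𝒜 P ha hb hbP hb, X_mul_monomial]
      congr 2
      apply val_injective
      refine (isUnit_pow_b P hbP (d + 1)).mul_right_cancel ?_
      rw [val_coef', pow_succ (algebraMap A (Localization.AtPrime P) b) d, ← mul_assoc, val_coef']
      simp only [pow_succ]
      ring
  let e : L ≃+* L' := RingEquiv.ofRingHom G F hGF hFG
  haveI : IsNoetherianRing L := IsLocalization.isNoetherianRing P.primeCompl L inferInstance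
  haveI : IsNoetherianRing L' := isNoetherianRing_of_ringEquiv L e
  haveI : LocCoh.IsGorensteinLocalRing L' := LC.gorenstein_of_ringEquiv e
  have hQ : Q.comap (algebraMap H H[X]) = maximalIdeal H := by
    ext c
    show φ (C c) ∈ maximalIdeal L ↔ _
    rw [show φ (C c) = c.val from eval₂_C _ _, mem_maximalIdeal, mem_maximalIdeal, mem_nonunits_iff,
      mem_nonunits_iff, HomogeneousLocalization.isUnit_iff_isUnit_val]
  haveI : Module.Flat H[X] L' := IsLocalization.flat _ Q.primeCompl
  haveI : Module.Flat H L' := Module.Flat.trans H H[X] L'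
  haveI : IsLocalHom (algebraMap H L') := ⟨fun c hc => by
    by_contra hu
    have hm : C c ∈ Q := by
      show c ∈ Q.comap (algebraMap H H[X])
      rw [hQ]
      exact hu
    rw [IsScalarTower.algebraMap_apply H H[X] L'] at hc
    exact (mem_maximalIdeal _).1 ((IsLocalization.AtPrime.to_map_mem_maximal_iff L' Q _).2 hm) hc⟩
  haveI : Module.FaithfullyFlat H L' := Module.FaithfullyFlat.of_flat_of_isLocalHom
  haveI : IsNoetherianRing H := FlatLoc6.isNoetherianRing_of_faithfullyFlat H L'
  exact ((LC.gorenstein_flat_local_iff H L').1 inferInstance).1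

theorem exists_notMem {d₀ : ℕ}
    (hsharp : ∀ d : ℕ, d₀ ≤ d → ∀ n : ℕ, 1 ≤ n →
      𝒜 ((n + 1) * d) = AddSubgroup.closure ((𝒜 d : Set A) * (𝒜 (n * d) : Set A)))
    (hP : ¬ (HomogeneousIdeal.irrelevant 𝒜).toIdeal ≤ P) (d : ℕ) (hd : d₀ ≤ d) (hd0 : 1 ≤ d) :
    ∃ a ∈ 𝒜 d, a ∉ P := by
  classical
  by_contra hc
  push Not at hc
  have hall : ∀ n, 1 ≤ n → ∀ x ∈ 𝒜 (n * d), x ∈ P := by
    intro n hn
    obtain ⟨n, rfl⟩ : ∃ m, n = m + 1 := ⟨n - 1, by omega⟩
    rcases Nat.eq_zero_or_pos n with rfl | hn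
    · simpa using hc
    intro x hx
    rw [hsharp d hd n hn] at hx
    refine (AddSubgroup.closure_le (K := P.toAddSubgroup)).2 ?_ hx
    rintro _ ⟨u, hu, v, -, rfl⟩
    exact P.mul_mem_right v (hc u hu)
  refine hP fun x hx => ?_
  rw [← DirectSum.sum_support_decompose 𝒜 x]
  refine P.sum_mem fun i _ => ?_
  rcases Nat.eq_zero_or_pos i with rfl | hi
  · replace hx := (HomogeneousIdeal.mem_irrelevant_iff 𝒜 x).1 hx
    have : ((DirectSum.decompose 𝒜 x 0 : 𝒜 0) : A) = 0 := by simpa [GradedRing.proj_apply] using hx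
    rw [this]
    exact P.zero_mem
  · refine ‹P.IsPrime›.mem_of_pow_mem d (hall i hi _ ?_)
    have := SetLike.pow_mem_graded d (DirectSum.decompose 𝒜 x i).2
    rwa [smul_eq_mul, mul_comm] at this

open AlgebraicGeometry in
/-- **`Proj` of a Gorenstein ring with degree one units is Gorenstein.** -/
theorem gorenstein_stalk [LocCoh.IsGorensteinRing A] (hsharp : ∃ d₀ : ℕ, ∀ d : ℕ, d₀ ≤ d → ∀ n : ℕ, 1 ≤ n →
      𝒜 ((n + 1) * d) = AddSubgroup.closure ((𝒜 d : Set A) * (𝒜 (n * d) : Set A))) (x : Proj 𝒜) :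
    LocCoh.IsGorensteinLocalRing ((Proj 𝒜).presheaf.stalk x) := by
  obtain ⟨d₀, hd₀⟩ := hsharp
  let P := x.asHomogeneousIdeal.toIdeal
  obtain ⟨a, ha, haP⟩ := exists_notMem 𝒜 P hd₀ x.not_irrelevant_le (d₀ + 1) (by omega) (by omega)
  obtain ⟨b, hb, hbP⟩ := exists_notMem 𝒜 P hd₀ x.not_irrelevant_le (d₀ + 1 + 1) (by omega) (by omega)
  haveI := LocCoh.IsGorensteinRing.isGorensteinLocalRing_localization (A := A) P
  haveI := gorensteinLocal_hl 𝒜 P ha hb haP hbP
  let e := (Proj.stalkIso 𝒜 x).commRingCatIsoToRingEquiv.symm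
  haveI : IsNoetherianRing ((Proj 𝒜).presheaf.stalk x) := isNoetherianRing_of_ringEquiv _ e
  exact LC.gorenstein_of_ringEquiv e

end Groth.Agent.ProjGor
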